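import Groth.Prelude.Def_W4bk4git07Quot
import Groth.Agent.Lib.GrpdQuot.FlatQuot
import Mathlib.AlgebraicGeometry.Morphisms.SchemeTheoreticallyDominant

/-!
# Geometric quotients descend along faithfully flat quasi-compact base changes
-/

universe u

open CategoryTheory CategoryTheory.Limits MonoidalCategory CartesianMonoidalCategory MonObj AlgebraicGeometry Topology

namespace GrothLib.GeomQuotDesc

theorem isGeomQuot_of_fpqc_baseChange {S : Scheme.{u}} {G X Y X' Y' : Over S} [GrpObj G]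
    (a : AlgGrp.Action G X) (φ : X ⟶ Y) [QuasiCompact φ.left] (hinv : GIT.IsInvariant a φ)
    (α : Y' ⟶ Y) [Flat α.left] [Surjective α.left] [QuasiCompact α.left]
    (pr : X' ⟶ X) (φ' : X' ⟶ Y') (hpb : IsPullback pr φ' φ α)
    (a' : AlgGrp.Action G X') (heq : a'.act ≫ pr = (G ◁ pr) ≫ a.act)
    (h : GIT.IsGeomQuot a' φ') :
    GIT.IsGeomQuot a φ := by
  have hp : CategoryTheory.IsPullback pr.left φ'.left φ.left α.left := hpb.map (Over.forget _)
  haveI : QuasiCompact φ'.left := MorphismProperty.of_isPullback (P := @QuasiCompact) hp inferInstance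
  haveI : Flat pr.left := MorphismProperty.of_isPullback (P := @Flat) hp.flip inferInstance
  haveI : Surjective pr.left := MorphismProperty.of_isPullback (P := @Surjective) hp.flip inferInstance
  haveI : QuasiCompact pr.left := MorphismProperty.of_isPullback (P := @QuasiCompact) hp.flip inferInstance
  haveI : IsSchemeTheoreticallyDominant φ'.left := ⟨Scheme.IdealSheafData.ext (funext fun V => by
    rw [Scheme.Hom.ker_apply, Scheme.IdealSheafData.ideal_bot, Pi.bot_apply]
    exact (RingHom.injective_iff_ker_eq_bot _).1 (h.sections V.1).1)⟩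
  have hα := fun U => GrothLib.GrpdQuot.sections_of_flat α.left U
  have hle : ∀ U : Y.left.Opens, φ'.left ⁻¹ᵁ (α.left ⁻¹ᵁ U) = pr.left ⁻¹ᵁ (φ.left ⁻¹ᵁ U) := fun U => by
    rw [← Scheme.Hom.comp_preimage, ← Scheme.Hom.comp_preimage, hp.w]
  -- pulling back sections
  have hpull : ∀ (U : Y.left.Opens) (g : Γ(Y.left, U)),
      pr.left.appLE (φ.left ⁻¹ᵁ U) (φ'.left ⁻¹ᵁ (α.left ⁻¹ᵁ U)) (hle U).le (φ.left.app U g) =
        φ'.left.app (α.left ⁻¹ᵁ U) (α.left.app U g) := by
    intro U g
    have e : φ.left.app U ≫ pr.left.appLE (φ.left ⁻¹ᵁ U) (φ'.left ⁻¹ᵁ (α.left ⁻¹ᵁ U)) (hle U).le =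
        α.left.app U ≫ φ'.left.app (α.left ⁻¹ᵁ U) := by
      rw [Scheme.Hom.app_eq_appLE, Scheme.Hom.app_eq_appLE, Scheme.Hom.app_eq_appLE,
        Scheme.Hom.appLE_comp_appLE, Scheme.Hom.appLE_comp_appLE]
      simp only [hp.w]
    exact ConcreteCategory.congr_hom e g
  have hprinj : ∀ U : Y.left.Opens, Function.Injective
      (pr.left.appLE (φ.left ⁻¹ᵁ U) (φ'.left ⁻¹ᵁ (α.left ⁻¹ᵁ U)) (hle U).le) := by
    intro U
    rw [Scheme.Hom.appLE]
    change Function.Injective (_ ∘ _)
    haveI : IsIso (homOfLE (hle U).le).op :=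
      ⟨(homOfLE (hle U).ge).op, Subsingleton.elim _ _, Subsingleton.elim _ _⟩
    exact (ConcreteCategory.bijective_of_isIso (X'.left.presheaf.map (homOfLE (hle U).le).op)).1.comp
      (GrothLib.GrpdQuot.sections_of_flat pr.left (φ.left ⁻¹ᵁ U)).1
  refine ⟨hinv, ?_, ?_, ?_, fun U => ⟨?_, ?_⟩⟩
  · intro y
    obtain ⟨y', rfl⟩ := α.left.surjective y
    obtain ⟨x', rfl⟩ := h.surj y'
    refine ⟨pr.left x', ?_⟩
    change φ.left (pr.left x') = α.left (φ'.left x')
    rw [← Scheme.Hom.comp_apply, ← Scheme.Hom.comp_apply, hp.w]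
  · intro z
    let β := Limits.pullback.fst φ.left φ.left ≫ φ.left
    haveI : Surjective (Limits.pullback.fst β α.left) := MorphismProperty.pullback_fst _ _ inferInstance
    obtain ⟨q, rfl⟩ := (Limits.pullback.fst β α.left).surjective z
    let t₁ : Limits.pullback β α.left ⟶ X'.left := hp.lift
      (Limits.pullback.fst β α.left ≫ Limits.pullback.fst φ.left φ.left) (Limits.pullback.snd β α.left)
      (by rw [Category.assoc, ← Limits.pullback.condition (f := β)])
    let t₂ : Limits.pullback β α.left ⟶ X'.left := hp.lift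
      (Limits.pullback.fst β α.left ≫ Limits.pullback.snd φ.left φ.left) (Limits.pullback.snd β α.left)
      (by rw [Category.assoc, ← Limits.pullback.condition (f := β), ← Limits.pullback.condition])
    let N : Limits.pullback β α.left ⟶ Limits.pullback φ'.left φ'.left :=
      Limits.pullback.lift t₁ t₂ (by rw [hp.lift_snd, hp.lift_snd])
    obtain ⟨w, hw⟩ := h.orbit (N q)
    let M : Limits.pullback φ'.left φ'.left ⟶ Limits.pullback φ.left φ.left :=
      Limits.pullback.lift (Limits.pullback.fst _ _ ≫ pr.left) (Limits.pullback.snd _ _ ≫ pr.left)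
        (by rw [Category.assoc, Category.assoc, hp.w, Limits.pullback.condition_assoc])
    have hNM : N ≫ M = Limits.pullback.fst β α.left := by
      apply Limits.pullback.hom_ext
      · rw [Category.assoc, Limits.pullback.lift_fst, Limits.pullback.lift_fst_assoc, hp.lift_fst]
      · rw [Category.assoc, Limits.pullback.lift_snd, Limits.pullback.lift_snd_assoc, hp.lift_fst]
    have hΨ : GIT.PsiY a' φ' h.inv ≫ M = (G ◁ pr).left ≫ GIT.PsiY a φ hinv := by
      unfold GIT.PsiY
      apply Limits.pullback.hom_ext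
      · rw [Category.assoc, Category.assoc, Limits.pullback.lift_fst, Limits.pullback.lift_fst_assoc,
          Limits.pullback.lift_fst, ← Over.comp_left, ← Over.comp_left, heq]
      · rw [Category.assoc, Category.assoc, Limits.pullback.lift_snd, Limits.pullback.lift_snd_assoc,
          Limits.pullback.lift_snd, ← Over.comp_left, ← Over.comp_left, whiskerLeft_snd]
    refine ⟨(G ◁ pr).left w, ?_⟩
    rw [← hNM]
    change GIT.PsiY a φ hinv ((G ◁ pr).left w) = (N ≫ M) q
    rw [← Scheme.Hom.comp_apply, ← hΨ, Scheme.Hom.comp_apply, Scheme.Hom.comp_apply, hw]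
  · intro X₁ Y₁ i₁ i₂ f₁ h₁
    let b := Limits.pullback.fst i₂ α.left
    let c := Limits.pullback.snd i₂ α.left
    let r := Limits.pullback.fst f₁ b
    let f₂ := Limits.pullback.snd f₁ b
    have hbig : CategoryTheory.IsPullback (r ≫ i₁) f₂ φ.left (c ≫ α.left) := by
      rw [← Limits.pullback.condition]
      exact (IsPullback.of_hasPullback f₁ b).paste_horiz h₁.flip
    let t := hp.lift (r ≫ i₁) (f₂ ≫ c) (by rw [hbig.w, Category.assoc])
    have hleft : CategoryTheory.IsPullback t f₂ φ'.left c := by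
      refine IsPullback.of_right ?_ (hp.lift_snd _ _ _) hp
      rw [hp.lift_fst]
      exact hbig
    have hq₂ : IsQuotientMap f₂.base := h.subm _ _ _ hleft.flip
    haveI : Flat b := inferInstance
    haveI : Surjective b := MorphismProperty.pullback_fst _ _ inferInstance
    haveI : QuasiCompact b := inferInstance
    have hqb : IsQuotientMap b.base := Flat.isQuotientMap_of_surjective b
    have hcomp : IsQuotientMap (f₁.base ∘ r.base) := by
      have e : (f₁.base ∘ r.base : _ → _) = b.base ∘ f₂.base := funext fun p =>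
        congrArg (fun g : Limits.pullback f₁ b ⟶ Y₁ => g.base p) Limits.pullback.condition
      rw [e]
      exact hqb.comp hq₂
    exact IsQuotientMap.of_comp r.continuous f₁.continuous hcomp
  · intro s t e
    apply (hα U).1
    apply (h.sections _).1
    rw [← hpull, ← hpull, e]
  · ext f
    constructor
    · rintro ⟨s, rfl⟩
      unfold GIT.IsInvSection
      rw [Set.mem_setOf_eq, Scheme.Hom.app_eq_appLE, ← CommRingCat.comp_apply, ← CommRingCat.comp_apply,
        Scheme.Hom.appLE_comp_appLE, Scheme.Hom.appLE_comp_appLE]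
      simp only [hinv.left]
    · intro hf
      set f' := pr.left.appLE (φ.left ⁻¹ᵁ U) (φ'.left ⁻¹ᵁ (α.left ⁻¹ᵁ U)) (hle U).le f with hf'def
      have hf' : GIT.IsInvSection a' φ' (α.left ⁻¹ᵁ U) f' := by
        have ha : a'.act.left ≫ pr.left = (G ◁ pr).left ≫ a.act.left := by
          rw [← Over.comp_left, ← Over.comp_left, heq]
        have hs : (snd G X').left ≫ pr.left = (G ◁ pr).left ≫ (snd G X).left := by
          rw [← Over.comp_left, ← Over.comp_left, whiskerLeft_snd]
        unfold GIT.IsInvSection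
        rw [hf'def, ← CommRingCat.comp_apply, ← CommRingCat.comp_apply,
          Scheme.Hom.appLE_comp_appLE, Scheme.Hom.appLE_comp_appLE]
        set W := a'.act.left ⁻¹ᵁ (φ'.left ⁻¹ᵁ (α.left ⁻¹ᵁ U)) ⊓ (snd G X').left ⁻¹ᵁ (φ'.left ⁻¹ᵁ (α.left ⁻¹ᵁ U))
        have hW : W ≤ (G ◁ pr).left ⁻¹ᵁ
            (a.act.left ⁻¹ᵁ (φ.left ⁻¹ᵁ U) ⊓ (snd G X).left ⁻¹ᵁ (φ.left ⁻¹ᵁ U)) := by
          intro p hp'
          obtain ⟨h1, h2⟩ : p ∈ a'.act.left ⁻¹ᵁ (φ'.left ⁻¹ᵁ (α.left ⁻¹ᵁ U)) ∧
              p ∈ (snd G X').left ⁻¹ᵁ (φ'.left ⁻¹ᵁ (α.left ⁻¹ᵁ U)) := hp'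
          rw [hle, ← Scheme.Hom.comp_preimage, ha, Scheme.Hom.comp_preimage] at h1
          rw [hle, ← Scheme.Hom.comp_preimage, hs, Scheme.Hom.comp_preimage] at h2
          exact ⟨h1, h2⟩
        simp only [ha, hs]
        rw [← Scheme.Hom.appLE_comp_appLE (G ◁ pr).left a.act.left _ _ _ inf_le_left hW,
          ← Scheme.Hom.appLE_comp_appLE (G ◁ pr).left (snd G X).left _ _ _ inf_le_right hW,
          CommRingCat.comp_apply, CommRingCat.comp_apply]
        exact congrArg _ hf
      obtain ⟨g', hg'⟩ : f' ∈ Set.range (φ'.left.app (α.left ⁻¹ᵁ U)) := by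
        rw [(h.sections _).2]; exact hf'
      obtain ⟨g, hg⟩ := (hα U).2 g' (by
        intro Z g₁ g₂ e₁ e₂ e
        let p₁ := Limits.pullback.fst α.left α.left
        let p₂ := Limits.pullback.snd α.left α.left
        let l : Z ⟶ Limits.pullback α.left α.left := Limits.pullback.lift g₁ g₂ e
        set W := p₁ ⁻¹ᵁ (α.left ⁻¹ᵁ U)
        have hW₂ : W = p₂ ⁻¹ᵁ (α.left ⁻¹ᵁ U) := by
          change p₁ ⁻¹ᵁ (α.left ⁻¹ᵁ U) = _
          rw [← Scheme.Hom.comp_preimage, ← Scheme.Hom.comp_preimage, Limits.pullback.condition]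
        have hl : (⊤ : Z.Opens) ≤ l ⁻¹ᵁ W := by
          change _ ≤ l ⁻¹ᵁ (p₁ ⁻¹ᵁ (α.left ⁻¹ᵁ U))
          rw [← Scheme.Hom.comp_preimage, Limits.pullback.lift_fst]
          exact e₁
        suffices hP : p₁.appLE (α.left ⁻¹ᵁ U) W le_rfl g' = p₂.appLE (α.left ⁻¹ᵁ U) W hW₂.le g' by
          have := congrArg (l.appLE W ⊤ hl) hP
          rw [← CommRingCat.comp_apply, ← CommRingCat.comp_apply, Scheme.Hom.appLE_comp_appLE,
            Scheme.Hom.appLE_comp_appLE] at this
          simpa only [l, p₁, p₂, Limits.pullback.lift_fst, Limits.pullback.lift_snd] using this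
        let π := Limits.pullback.snd φ'.left p₁
        let q₁ := Limits.pullback.fst φ'.left p₁
        haveI : IsSchemeTheoreticallyDominant π :=
          IsSchemeTheoreticallyDominant.of_isPullback (IsPullback.of_hasPullback φ'.left p₁)
        have hq₁ : q₁ ≫ φ'.left = π ≫ p₁ := Limits.pullback.condition
        let q₂ := hp.lift (q₁ ≫ pr.left) (π ≫ p₂) (by
          rw [Category.assoc, hp.w, reassoc_of% hq₁, Category.assoc]
          exact congrArg (π ≫ ·) Limits.pullback.condition)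
        apply π.app_injective W
        rw [Scheme.Hom.app_eq_appLE, ← CommRingCat.comp_apply, ← CommRingCat.comp_apply,
          Scheme.Hom.appLE_comp_appLE, Scheme.Hom.appLE_comp_appLE]
        have hq₂ : q₂ ≫ φ'.left = π ≫ p₂ := hp.lift_snd _ _ _
        have hq₂' : q₂ ≫ pr.left = q₁ ≫ pr.left := hp.lift_fst _ _ _
        have h₁ : π ⁻¹ᵁ W ≤ q₁ ⁻¹ᵁ (φ'.left ⁻¹ᵁ (α.left ⁻¹ᵁ U)) := by
          rw [← Scheme.Hom.comp_preimage q₁, hq₁, Scheme.Hom.comp_preimage]
        have h₂ : π ⁻¹ᵁ W ≤ q₂ ⁻¹ᵁ (φ'.left ⁻¹ᵁ (α.left ⁻¹ᵁ U)) := by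
          rw [← Scheme.Hom.comp_preimage q₂, hq₂, Scheme.Hom.comp_preimage, hW₂]
        simp only [← hq₁, ← hq₂]
        rw [← Scheme.Hom.appLE_comp_appLE q₁ φ'.left _ _ _ le_rfl h₁,
          ← Scheme.Hom.appLE_comp_appLE q₂ φ'.left _ _ _ le_rfl h₂,
          CommRingCat.comp_apply, CommRingCat.comp_apply, ← Scheme.Hom.app_eq_appLE, hg', hf'def,
          ← CommRingCat.comp_apply, ← CommRingCat.comp_apply,
          Scheme.Hom.appLE_comp_appLE, Scheme.Hom.appLE_comp_appLE]
        simp only [hq₂'])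
      exact ⟨g, hprinj U (by rw [hpull, hg, hg'])⟩


end GrothLib.GeomQuotDesc
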